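import Cfsg.Agent.Lib.InvChar.SporData.HN.K3.F0
import Cfsg.Agent.Lib.InvChar.SporData.HN.K3.F1
import Cfsg.Agent.Lib.InvChar.SporData.HN.K3.F2
import Cfsg.Agent.Lib.InvChar.SporData.HN.K3.F3
import Cfsg.Agent.Lib.InvChar.SporData.HN.K3.F4
import Cfsg.Agent.Lib.InvChar.SporData.HN.K3.F5
import Cfsg.Agent.Lib.InvChar.SporData.HN.K3.F6
import Cfsg.Agent.Lib.InvChar.SporData.HN.K3.F7
import Cfsg.Agent.Lib.InvChar.SporData.HN.K3.F8
import Cfsg.Agent.Lib.InvChar.SporData.HN.K3.F9
import Cfsg.Agent.Lib.InvChar.SporData.HN.K3.F10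
import Cfsg.Agent.Lib.InvChar.SporData.HN.K3.F11
import Cfsg.Agent.Lib.InvChar.SporData.HN.K3.F12
import Cfsg.Agent.Lib.InvChar.SporData.HN.K3.F13

/-! The listing of orbit 3 is checked. -/

set_option autoImplicit false
set_option maxRecDepth 100000

namespace CfsgLib.InvChar.SporHN

open CfsgLib.InvChar.Coset

theorem kChecked3 : kList3.Checked ⟨1408, 3, derPerm3⟩ (pack4 0 904 829 621) where
  hroot := by decide +kernel
  elems j hj := by
    have hj : j < 80640 := hj
    rcases Nat.lt_or_ge j 6000 with h0 | h0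
    · exact kList3.chkElems_get _ _ 6000 0 kChk3_0 j (by omega) (by omega)
    rcases Nat.lt_or_ge j 12000 with h1 | h1
    · exact kList3.chkElems_get _ _ 6000 6000 kChk3_1 j (by omega) (by omega)
    rcases Nat.lt_or_ge j 18000 with h2 | h2
    · exact kList3.chkElems_get _ _ 6000 12000 kChk3_2 j (by omega) (by omega)
    rcases Nat.lt_or_ge j 24000 with h3 | h3
    · exact kList3.chkElems_get _ _ 6000 18000 kChk3_3 j (by omega) (by omega)
    rcases Nat.lt_or_ge j 30000 with h4 | h4
    · exact kList3.chkElems_get _ _ 6000 24000 kChk3_4 j (by omega) (by omega)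
    rcases Nat.lt_or_ge j 36000 with h5 | h5
    · exact kList3.chkElems_get _ _ 6000 30000 kChk3_5 j (by omega) (by omega)
    rcases Nat.lt_or_ge j 42000 with h6 | h6
    · exact kList3.chkElems_get _ _ 6000 36000 kChk3_6 j (by omega) (by omega)
    rcases Nat.lt_or_ge j 48000 with h7 | h7
    · exact kList3.chkElems_get _ _ 6000 42000 kChk3_7 j (by omega) (by omega)
    rcases Nat.lt_or_ge j 54000 with h8 | h8
    · exact kList3.chkElems_get _ _ 6000 48000 kChk3_8 j (by omega) (by omega)
    rcases Nat.lt_or_ge j 60000 with h9 | h9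
    · exact kList3.chkElems_get _ _ 6000 54000 kChk3_9 j (by omega) (by omega)
    rcases Nat.lt_or_ge j 66000 with h10 | h10
    · exact kList3.chkElems_get _ _ 6000 60000 kChk3_10 j (by omega) (by omega)
    rcases Nat.lt_or_ge j 72000 with h11 | h11
    · exact kList3.chkElems_get _ _ 6000 66000 kChk3_11 j (by omega) (by omega)
    rcases Nat.lt_or_ge j 78000 with h12 | h12
    · exact kList3.chkElems_get _ _ 6000 72000 kChk3_12 j (by omega) (by omega)
    rcases Nat.lt_or_ge j 80640 with h13 | h13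
    · exact kList3.chkElems_get _ _ 2640 78000 kChk3_13 j (by omega) (by omega)
    omega

end CfsgLib.InvChar.SporHN
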